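import Groth.Agent.PicFrob.Stage
import Groth.Agent.ConsEngine.UnivClosed

/-!
Classes on a scheme over an algebra come from finitely generated subalgebras.
-/

set_option autoImplicit false
set_option backward.isDefEq.respectTransparency false
set_option backward.isDefEq.respectTransparency.types false
set_option linter.style.haveILetI false
set_option linter.unusedSectionVars false
set_option maxHeartbeats 1000000

universe u

open CategoryTheory CategoryTheory.Limits AlgebraicGeometry Opposite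
open Groth.Agent.W7Cube (pull pull_pull pull_cls)

noncomputable section

namespace Groth.Agent.NumOpen

attribute [local instance] W7Cube.law

variable {A Ω : Type u} [CommRing A] [CommRing Ω] [Algebra A Ω]

/-- the projection to the spectrum of a subalgebra -/
abbrev val (B : Subalgebra A Ω) : Spec (CommRingCat.of Ω) ⟶ Spec (CommRingCat.of ↥B) :=
  Spec.map (CommRingCat.ofHom (algebraMap ↥B Ω))

/-- the transition map -/
abbrev inc {B B' : Subalgebra A Ω} (h : B ≤ B') : Spec (CommRingCat.of ↥B') ⟶ Spec (CommRingCat.of ↥B) :=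
  Spec.map (CommRingCat.ofHom (Subalgebra.inclusion h).toRingHom)

theorem val_inc {B B' : Subalgebra A Ω} (h : B ≤ B') : val B' ≫ inc h = val B := by
  rw [← Spec.map_comp]; rfl

theorem inc_inc {B B' B'' : Subalgebra A Ω} (h : B ≤ B') (h' : B' ≤ B'') : inc h' ≫ inc h = inc (h.trans h') := by
  rw [← Spec.map_comp]; rfl

variable {B₀ : Subalgebra A Ω} {Y₀ : Scheme.{u}} (g₀ : Y₀ ⟶ Spec (CommRingCat.of ↥B₀))

/-- from the base change to the whole algebra to a stage -/
def proj {B : Subalgebra A Ω} (hle : B₀ ≤ B) : pullback g₀ (val B₀) ⟶ pullback g₀ (inc hle) :=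
  pullback.lift (pullback.fst _ _) (pullback.snd _ _ ≫ val B)
    (by rw [Category.assoc, val_inc hle, pullback.condition])

@[reassoc]
theorem proj_fst {B : Subalgebra A Ω} (hle : B₀ ≤ B) : proj g₀ hle ≫ pullback.fst _ _ = pullback.fst _ _ :=
  pullback.lift_fst _ _ _

@[reassoc]
theorem proj_snd {B : Subalgebra A Ω} (hle : B₀ ≤ B) : proj g₀ hle ≫ pullback.snd _ _ = pullback.snd _ _ ≫ val B :=
  pullback.lift_snd _ _ _

variable [CompactSpace Y₀] [QuasiSeparatedSpace Y₀] (hB₀ : B₀.FG)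

include hB₀

/-- a class on the base change comes from a stage -/
theorem exists_cls (c : PicLoc.PicSet (pullback g₀ (val B₀))) :
    ∃ (B : Subalgebra A Ω) (_ : B.FG) (hle : B₀ ≤ B) (c' : PicLoc.PicSet (pullback g₀ (inc hle))),
      pull (proj g₀ hle) c' = c := by
  haveI : IsCofiltered (ConsEngine.FgOver A Ω)ᵒᵖ := isCofiltered_op_of_isFiltered _
  let D := ConsEngine.fgOverDiagram A Ω
  let i₀ : (ConsEngine.FgOver A Ω)ᵒᵖ := op ⟨B₀, hB₀⟩
  let g : Y₀ ⟶ D.obj i₀ := g₀
  have hY : IsPullback (pullback.fst g₀ (val B₀)) (pullback.snd g₀ (val B₀)) g ((ConsEngine.fgOverCone A Ω).π.app i₀) :=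
    IsPullback.of_hasPullback g₀ (val B₀)
  let D' := LimDesc.tower D g
  let c' := LimDesc.towerCone D g (ConsEngine.fgOverCone A Ω) hY
  have hc' : IsLimit c' := LimDesc.isLimitTowerCone D g (ConsEngine.fgOverCone A Ω) hY (ConsEngine.fgOverIsLimit A Ω)
  haveI : CompactSpace (D'.obj (Over.mk (𝟙 i₀))) := LimDesc.compactSpace_stage _ g _
  haveI : QuasiSeparatedSpace (D'.obj (Over.mk (𝟙 i₀))) := LimDesc.quasiSeparatedSpace_stage _ g _
  obtain ⟨j, -, y, hy⟩ := PicFrob.exists_cls_stage (D := D') (c := c') (i₀ := Over.mk (𝟙 i₀)) hc' c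
  exact ⟨j.left.unop.1, j.left.unop.2, (leOfHom j.hom.unop : _ ≤ _), y, hy⟩

/-- classes equal on the base change agree at a stage -/
theorem exists_eq (c₁ c₂ : PicLoc.PicSet Y₀)
    (h : pull (pullback.fst g₀ (val B₀)) c₁ = pull (pullback.fst g₀ (val B₀)) c₂) :
    ∃ (B : Subalgebra A Ω) (_ : B.FG) (hle : B₀ ≤ B),
      pull (pullback.fst g₀ (inc hle)) c₁ = pull (pullback.fst g₀ (inc hle)) c₂ := by
  haveI : IsCofiltered (ConsEngine.FgOver A Ω)ᵒᵖ := isCofiltered_op_of_isFiltered _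
  let D := ConsEngine.fgOverDiagram A Ω
  let i₀ : (ConsEngine.FgOver A Ω)ᵒᵖ := op ⟨B₀, hB₀⟩
  let g : Y₀ ⟶ D.obj i₀ := g₀
  have hY : IsPullback (pullback.fst g₀ (val B₀)) (pullback.snd g₀ (val B₀)) g ((ConsEngine.fgOverCone A Ω).π.app i₀) :=
    IsPullback.of_hasPullback g₀ (val B₀)
  let D' := LimDesc.tower D g
  let c' := LimDesc.towerCone D g (ConsEngine.fgOverCone A Ω) hY
  have hc' : IsLimit c' := LimDesc.isLimitTowerCone D g (ConsEngine.fgOverCone A Ω) hY (ConsEngine.fgOverIsLimit A Ω)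
  let o : Over i₀ := Over.mk (𝟙 i₀)
  haveI : CompactSpace (D'.obj o) := LimDesc.compactSpace_stage _ g _
  haveI : QuasiSeparatedSpace (D'.obj o) := LimDesc.quasiSeparatedSpace_stage _ g _
  have hb : c'.π.app o ≫ LimDesc.toBase D g o = pullback.fst g₀ (val B₀) :=
    LimDesc.proj_toBase D g (ConsEngine.fgOverCone A Ω) hY o
  rw [← hb, ← pull_pull, ← pull_pull] at h
  obtain ⟨j, φ, hφ⟩ := PicFrob.exists_eq_stage (D := D') (c := c') (i₀ := o) hc' _ _ h
  have ht : D'.map φ ≫ LimDesc.toBase D g o = LimDesc.toBase D g j := LimDesc.trans_toBase D g φ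
  rw [pull_pull, pull_pull, ht] at hφ
  exact ⟨j.left.unop.1, j.left.unop.2, (leOfHom j.hom.unop : _ ≤ _), hφ⟩

end Groth.Agent.NumOpen
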